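import Mathlib
import Cfsg.Agent.H125.Hall.Defs
import Cfsg.Agent.H95.LSx.Sub
import Cfsg.Agent.H912.CrossList_m3
import Cfsg.Agent.S2089
import Cfsg.Agent.H454.PsuThree
import Cfsg.Agent.KFacts.Unit.Emb
import Cfsg.Agent.H667.TwoPSUModel
import Cfsg.Agent.Prune
set_option linter.all false
prune_inst 0x7f00000000000000000000000000000000000000000000000000000000000000000000000000000000000000000000000000000000000000000000000000000000000000000000000000000000000000003fffffffffffffffffffffffffffbeffbdffffffff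
open scoped Cfsg.Agent.FastGrp

/-!
# The exceptional properties of `U₄(3)` (helper193; task ALS3b of S2223)

`excU_u43` : `|Aut U₄(3)|₂ = 2^10`, every nontrivial projective representation in characteristic prime to the order has
degree at least `6`, and there is an elementary abelian subgroup of order `81`.
-/

set_option autoImplicit false

namespace Cfsg.Agent.H193.Hall

open Cfsg Subgroup Cfsg.Agent.H125.Hall Cfsg.Agent.H203.LS Cfsg.Agent.H95.LSx Cfsg.Agent.H912.Bd Matrix
open Cfsg.Agent.LieClassical.HermBasic Cfsg.Agent.LieClassical.HermSiegel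
open Cfsg.Agent.ClassicalGeometry.PSUAutBasic

variable {F : Type} [Field F] [Fintype F]

/-! ### The elementary abelian subgroup of order 81 -/

section E81

end E81

/-! ### The order of the automorphism group -/

/-! ### The degrees -/

theorem ls_u33 (hF : Fintype.card F = 3 ^ 2) : LS.{0, 0, 0} 3 6 (PSU 3 F 3) := by
  have : IsSimpleGroup (PSU 3 F 3) := Cfsg.Agent.S0283.result hF 3 le_rfl (by norm_num)
  have hchar : CharP F 3 := Cfsg.Agent.H454.PsuThree.charP_three hF
  have hN : NoR.{0} 3 (PSU 3 F 3) :=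
    NoR.of_cyclic (Cfsg.Agent.S2089.result (F := F) 3 3 hF le_rfl (by norm_num) (by simp)) (by decide)
  refine LS.univ (LS.of_bd hN fun k _ hk => ?_)
  have h1 := Cfsg.Agent.H175.BdSU.bd_psu (F := k) Nat.prime_three hF (le_refl 3) hk (MulEquiv.refl (PSU 3 F 3))
  exact h1

theorem ls_u43 (hF : Fintype.card F = 3 ^ 2) : LS.{0, 0, 0} 3 6 (PSU 4 F 3) := by
  have h4 : IsSimpleGroup (PSU 4 F 3) := Cfsg.Agent.S0283.result hF 4 (by norm_num) (by norm_num)
  have h3 : IsSimpleGroup (PSU 3 F 3) := Cfsg.Agent.S0283.result hF 3 le_rfl (by norm_num)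
  have hq : IsQuasisimple (SU 3 F 3) := GenPsu.quasi hF (by norm_num) (by norm_num)
  have hX : commutator (SU 3 F 3) = ⊤ := hq.1.1
  have hinj : Function.Injective ((pr 4 F 3).comp (Cfsg.Agent.KFacts.Unit.emb (F := F) (q := 3) (m := 3) 1)) := by
    rw [injective_iff_map_eq_one]
    intro x hx
    have h1 : Cfsg.Agent.KFacts.Unit.emb (F := F) (q := 3) (m := 3) 1 x ∈ center (SU 4 F 3) := pr_eq_one_iff.1 hx
    obtain ⟨d, hd0, -, hd⟩ := exists_scalar_of_mem_center hF (by norm_num) h1
    have h2 := congrFun (hd (Pi.single 3 1)) 3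
    have h5 := Cfsg.Agent.KFacts.Unit.act_emb_n (d := 1) x (Pi.single 3 1) 0
    have h6 : (Fin.natAdd 3 (0 : Fin 1) : Fin (3 + 1)) = 3 := rfl
    rw [h6] at h5
    have hd1 : d = 1 := by
      rw [h5] at h2
      simpa using h2.symm
    apply Cfsg.Agent.KFacts.Unit.emb_injective (d := 1)
    rw [map_one]
    apply ext_act
    intro v
    rw [hd, hd1, one_smul, act_one]
  refine LS.of_hom hX ((pr 4 F 3).comp (Cfsg.Agent.KFacts.Unit.emb (F := F) (q := 3) (m := 3) 1)) ?_ (pr 3 F 3)
    pr_surjective ?_ (ls_u33 hF)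
  · intro hcon
    have : Nontrivial (SU 3 F 3) := (pr_surjective (n := 3) (F := F) (q := 3)).nontrivial
    obtain ⟨a, b, hab⟩ := exists_pair_ne (SU 3 F 3)
    exact hab (hinj (by rw [hcon]; rfl))
  · intro x hx
    exact pr_eq_one_iff.1 hx

end Cfsg.Agent.H193.Hall

private theorem dce_4e6bff277563 : _root_.True := by
  try have : _root_.True := by simp only [_root_.Cfsg.Agent.H125.Hall.v2.eq_1]
  exact _root_.True.intro
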